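import Mathlib
import Groth.Prelude.Def_CAlg
import Groth.Agent.Depth.Basic
import Groth.Agent.RegLocal.Basic

/-!
# Finite flat algebras over regular rings are Cohen–Macaulay
-/

namespace Groth.Agent.CMGraded

open IsLocalRing RingTheory.Sequence

universe u

theorem length_le_ringKrullDim {R : Type u} [CommRing R] [IsLocalRing R] [IsNoetherianRing R] {rs : List R}
    (hm : ∀ r ∈ rs, r ∈ maximalIdeal R) (h : IsWeaklyRegular R rs) :
    (rs.length : WithBot ℕ∞) ≤ ringKrullDim R := by
  have e := ringKrullDim_add_length_eq_ringKrullDim_of_isRegular rs (IsRegular.of_isWeaklyRegular_of_mem_maximalIdeal R hm h)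
  haveI : Nontrivial (R ⧸ Ideal.ofList rs) := Ideal.Quotient.nontrivial_iff.2 fun htop =>
    (maximalIdeal.isMaximal R).ne_top (eq_top_iff.2 (htop ▸ Ideal.span_le.2 hm))
  calc (rs.length : WithBot ℕ∞) = 0 + rs.length := (zero_add _).symm
    _ ≤ ringKrullDim (R ⧸ Ideal.ofList rs) + rs.length := add_le_add ringKrullDim_nonneg_of_nontrivial le_rfl
    _ = ringKrullDim R := e

/-- A local ring with a regular sequence as long as its dimension is Cohen–Macaulay. -/
theorem isCohenMacaulayLocalRing_of_seq {R : Type u} [CommRing R] [IsLocalRing R] [IsNoetherianRing R] {rs : List R}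
    (hm : ∀ r ∈ rs, r ∈ maximalIdeal R) (h : IsWeaklyRegular R rs) (hd : ringKrullDim R ≤ rs.length) :
    LocCoh.IsCohenMacaulayLocalRing R := by
  refine { supportDim_eq_depth := ?_ }
  have hI : maximalIdeal R • (⊤ : Submodule R R) ≠ ⊤ := by
    rw [smul_eq_mul, Ideal.mul_top]; exact (maximalIdeal.isMaximal R).ne_top
  have hdim : ringKrullDim R = rs.length := le_antisymm hd (length_le_ringKrullDim hm h)
  rw [Module.supportDim_self_eq_ringKrullDim, hdim]
  have hle : (rs.length : ℕ∞) ≤ LocCoh.depth R R := (Depth.le_idealDepth_iff hI rs.length).2 ⟨rs, rfl, hm, h⟩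
  have hge : LocCoh.depth R R ≤ rs.length := by
    by_contra hlt
    rw [not_le] at hlt
    obtain ⟨s, hs, hsm, hsw⟩ := (Depth.le_idealDepth_iff hI (rs.length + 1)).1 (by
      rw [Nat.cast_add, Nat.cast_one]; exact Order.add_one_le_of_lt hlt)
    have := length_le_ringKrullDim hsm hsw
    rw [hdim, hs] at this
    norm_cast at this
    omega
  rw [le_antisymm hge hle]
  rfl

theorem depth_eq_ringKrullDim {R : Type u} [CommRing R] [h : LocCoh.IsCohenMacaulayLocalRing R] :
    ((LocCoh.depth R R : ℕ∞) : WithBot ℕ∞) = ringKrullDim R := by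
  rw [← h.supportDim_eq_depth, Module.supportDim_self_eq_ringKrullDim]

/-- Incomparability bounds the dimension of a localization of a finite algebra. -/
theorem ringKrullDim_atPrime_le {P A : Type u} [CommRing P] [CommRing A] [Algebra P A] [Algebra.IsIntegral P A]
    (q : Ideal A) [q.IsPrime] :
    ringKrullDim (Localization.AtPrime q) ≤ ringKrullDim (Localization.AtPrime (q.under P)) := by
  let g := Localization.localRingHom (q.under P) q (algebraMap P A) rfl
  refine Order.krullDim_le_of_strictMono (fun Q => PrimeSpectrum.comap g Q) fun Q Q' hQ => ?_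
  refine lt_of_le_of_ne (Ideal.comap_mono hQ.le) fun e => ?_
  have hA : Q.asIdeal.comap (algebraMap A _) < Q'.asIdeal.comap (algebraMap A _) := by
    refine lt_of_le_of_ne (Ideal.comap_mono hQ.le) fun e' => hQ.ne (PrimeSpectrum.ext ?_)
    rw [← IsLocalization.map_comap q.primeCompl (Localization.AtPrime q) Q.asIdeal,
      ← IsLocalization.map_comap q.primeCompl (Localization.AtPrime q) Q'.asIdeal]
    exact congrArg (Ideal.map _) e'
  obtain ⟨x, hxq, hxp⟩ := SetLike.exists_of_lt hA
  have hlt := Ideal.comap_lt_comap_of_integral_mem_sdiff hA.le ⟨hxq, hxp⟩ (Algebra.IsIntegral.isIntegral (R := P) x)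
  refine hlt.ne ?_
  have e' := congrArg (Ideal.comap (algebraMap P (Localization.AtPrime (q.under P)))) (congrArg PrimeSpectrum.asIdeal e)
  simp only [PrimeSpectrum.comap_asIdeal, Ideal.comap_comap] at e' ⊢
  rwa [show g.comp (algebraMap P _) = (algebraMap A (Localization.AtPrime q)).comp (algebraMap P A) from
    RingHom.ext fun y => Localization.localRingHom_to_map _ _ _ rfl y] at e'

theorem isCohenMacaulayRing_of_finite_flat (P : Type u) [CommRing P] [IsRegularRing P]
    (A : Type u) [CommRing A] [Algebra P A] [Module.Finite P A] [Module.Flat P A] : LocCoh.IsCohenMacaulayRing A := by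
  haveI : IsNoetherianRing A := IsNoetherianRing.of_finite P A
  refine { isCohenMacaulayLocalRing_localization := fun q _ => ?_ }
  set p := q.under P
  letI := (Localization.localRingHom p q (algebraMap P A) rfl).toAlgebra
  haveI : IsScalarTower P (Localization.AtPrime p) (Localization.AtPrime q) := IsScalarTower.of_algebraMap_eq fun y => by
    rw [RingHom.algebraMap_toAlgebra, Localization.localRingHom_to_map, ← IsScalarTower.algebraMap_apply P A]
  haveI : Module.Flat P (Localization.AtPrime q) := Module.Flat.trans P A _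
  haveI : Module.Flat (Localization.AtPrime p) (Localization.AtPrime q) :=
    (Module.flat_iff_of_isLocalization (Localization.AtPrime p) p.primeCompl _).2 inferInstance
  haveI : IsRegularLocalRing (Localization.AtPrime p) := IsRegularRing.isRegularLocalRing_localization p
  obtain ⟨d, hd⟩ := RegLocal.exists_nat_ringKrullDim (Localization.AtPrime p)
  obtain ⟨x, hx⟩ := RegLocal.exists_generators (Localization.AtPrime p)
  have hd' : (maximalIdeal (Localization.AtPrime p)).spanFinrank = d := by
    exact_mod_cast (IsRegularLocalRing.spanFinrank_maximalIdeal (R := Localization.AtPrime p)).trans hd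
  have hreg := RegLocal.isRegular_of_generators _ (by rw [hd']; exact hd) x hx
  refine isCohenMacaulayLocalRing_of_seq (rs := (List.ofFn x).map (algebraMap _ (Localization.AtPrime q))) ?_
    (IsWeaklyRegular.of_flat hreg.toIsWeaklyRegular) ?_
  · intro r hr
    obtain ⟨y, hy, rfl⟩ := List.mem_map.1 hr
    obtain ⟨i, rfl⟩ := List.mem_ofFn.1 hy
    exact map_nonunit (Localization.localRingHom p q (algebraMap P A) rfl) _ (hx ▸ Ideal.subset_span (Set.mem_range_self i))
  · refine (ringKrullDim_atPrime_le (P := P) q).trans (le_of_eq ?_)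
    rw [hd, List.length_map, List.length_ofFn, hd']

end Groth.Agent.CMGraded
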