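import Mathlib

/-!
# Weakly regular sequences along short exact sequences and gluing of two quotients
-/

namespace Groth.Agent.CMGraded

open RingTheory.Sequence Function

universe u v

variable {R : Type u} [CommRing R]

theorem factor_mk {I J : Ideal R} (h : I ≤ J) (a : R) :
    Submodule.factor h (Submodule.Quotient.mk a) = Submodule.Quotient.mk a := rfl

theorem quotSMulTop_map_injective {A B C : Type v} [AddCommGroup A] [Module R A] [AddCommGroup B] [Module R B]
    [AddCommGroup C] [Module R C] {f : A →ₗ[R] B} {g : B →ₗ[R] C} (hf : Injective f) (h : Exact f g)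
    {r : R} (hr : IsSMulRegular C r) : Injective (QuotSMulTop.map r f) := by
  have h0 : Exact (0 : PUnit.{v + 1} →ₗ[R] A) f := by
    rw [LinearMap.exact_iff, LinearMap.range_zero, LinearMap.ker_eq_bot.2 hf]
  have e := QuotSMulTop.map_first_exact_on_four_term_exact_of_isSMulRegular_last h0 h hr
  rw [LinearMap.exact_iff] at e
  rw [← LinearMap.ker_eq_bot, e, LinearMap.range_eq_bot]
  ext x
  rw [Subsingleton.elim x 0]
  simp

/-- The kernel of a surjection inherits weak regularity; the last element is only needed on the middle term. -/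
theorem isWeaklyRegular_of_exact_left {rs rs' : List R} (hrs : rs' <+: rs) (hlen : rs.length ≤ rs'.length + 1) :
    ∀ {A B C : Type v} [AddCommGroup A] [Module R A] [AddCommGroup B] [Module R B]
      [AddCommGroup C] [Module R C] (f : A →ₗ[R] B) (g : B →ₗ[R] C), Injective f → Exact f g → Surjective g →
      IsWeaklyRegular B rs → IsWeaklyRegular C rs' → IsWeaklyRegular A rs := by
  induction rs generalizing rs' with
  | nil => intros; exact .nil R _
  | cons r rs ih =>
    intro A B C _ _ _ _ _ _ f g hf h hg hB hC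
    rw [isWeaklyRegular_cons_iff] at hB ⊢
    refine ⟨hB.1.of_injective f hf, ?_⟩
    rcases rs' with _ | ⟨r', rs'⟩
    · obtain rfl : rs = [] := List.eq_nil_of_length_eq_zero (by simp only [List.length_cons, List.length_nil] at hlen; omega)
      exact .nil R _
    · obtain ⟨rfl, hp⟩ := List.cons_prefix_cons.1 hrs
      rw [isWeaklyRegular_cons_iff] at hC
      exact ih hp (by simp at hlen; omega) _ _ (quotSMulTop_map_injective hf h hC.1)
        (QuotSMulTop.map_exact _ h hg) (QuotSMulTop.map_surjective _ hg) hB.2 hC.2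

theorem isWeaklyRegular_of_exact_left' {rs : List R} {A B C : Type v} [AddCommGroup A] [Module R A]
    [AddCommGroup B] [Module R B] [AddCommGroup C] [Module R C] (f : A →ₗ[R] B) (g : B →ₗ[R] C) (hf : Injective f)
    (h : Exact f g) (hg : Surjective g) (hB : IsWeaklyRegular B rs) (hC : IsWeaklyRegular C rs) :
    IsWeaklyRegular A rs :=
  isWeaklyRegular_of_exact_left (List.prefix_refl rs) (Nat.le_succ _) f g hf h hg hB hC

/-- Extensions inherit weak regularity. -/
theorem isWeaklyRegular_of_exact_mid {rs : List R} : ∀ {A B C : Type v} [AddCommGroup A] [Module R A]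
    [AddCommGroup B] [Module R B] [AddCommGroup C] [Module R C] (f : A →ₗ[R] B) (g : B →ₗ[R] C),
    Injective f → Exact f g → Surjective g →
    IsWeaklyRegular A rs → IsWeaklyRegular C rs → IsWeaklyRegular B rs := by
  induction rs with
  | nil => intros; exact .nil R _
  | cons r rs ih =>
    intro A B C _ _ _ _ _ _ f g hf h hg hA hC
    rw [isWeaklyRegular_cons_iff] at hA hC ⊢
    refine ⟨?_, ih _ _ (quotSMulTop_map_injective hf h hC.1)
      (QuotSMulTop.map_exact _ h hg) (QuotSMulTop.map_surjective _ hg) hA.2 hC.2⟩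
    rw [isSMulRegular_iff_right_eq_zero_of_smul]
    intro b hb
    have hgb : g b = 0 := hC.1.right_eq_zero_of_smul (by rw [← map_smul, hb, map_zero])
    obtain ⟨a, rfl⟩ := (h b).1 hgb
    have : a = 0 := hA.1.right_eq_zero_of_smul (hf (by rw [map_smul, hb, map_zero]))
    rw [this, map_zero]

theorem isWeaklyRegular_prod {rs : List R} {A B : Type v} [AddCommGroup A] [Module R A] [AddCommGroup B]
    [Module R B] (hA : IsWeaklyRegular A rs) (hB : IsWeaklyRegular B rs) : IsWeaklyRegular (A × B) rs :=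
  isWeaklyRegular_of_exact_mid (LinearMap.inl R A B) (LinearMap.snd R A B) LinearMap.inl_injective
    Function.Exact.inl_snd LinearMap.snd_surjective hA hB

/-- The first step of a weakly regular sequence on a cyclic module. -/
theorem isWeaklyRegular_quotient_cons_iff (J : Ideal R) (x : R) (rs : List R) :
    IsWeaklyRegular (R ⧸ J) (x :: rs) ↔
      (∀ a, x * a ∈ J → a ∈ J) ∧ IsWeaklyRegular (R ⧸ (J ⊔ Ideal.span {x})) rs := by
  rw [isWeaklyRegular_cons_iff]
  refine and_congr ?_ ?_
  · rw [isSMulRegular_iff_right_eq_zero_of_smul]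
    refine ⟨fun h a ha => Ideal.Quotient.eq_zero_iff_mem.1 (h _ ?_), fun h b hb => ?_⟩
    · show x • Submodule.Quotient.mk a = 0
      rw [← Submodule.Quotient.mk_smul, Submodule.Quotient.mk_eq_zero]
      exact ha
    · obtain ⟨a, rfl⟩ := Submodule.Quotient.mk_surjective _ b
      rw [← Submodule.Quotient.mk_smul, Submodule.Quotient.mk_eq_zero] at hb
      exact (Submodule.Quotient.mk_eq_zero _).2 (h a hb)
  · refine LinearEquiv.isWeaklyRegular_congr ?_ rs
    refine Submodule.quotEquivOfEq _ _ ?_ ≪≫ₗ Submodule.quotientQuotientEquivQuotientSup J (Ideal.span {x})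
    rw [← Submodule.ideal_span_singleton_smul]
    refine le_antisymm (Submodule.smul_le.2 fun r hr m _ => ?_) ?_
    · obtain ⟨a, rfl⟩ := Submodule.Quotient.mk_surjective _ m
      exact ⟨r * a, Ideal.mul_mem_right a _ hr, rfl⟩
    · rintro _ ⟨a, ha, rfl⟩
      rw [Submodule.mkQ_apply, ← mul_one a, ← smul_eq_mul, Submodule.Quotient.mk_smul]
      exact Submodule.smul_mem_smul ha trivial

/-- The difference map `R/I × R/J → R/(I + J)`. -/
noncomputable def glueDiff (I J : Ideal R) : (R ⧸ I) × (R ⧸ J) →ₗ[R] R ⧸ (I ⊔ J) :=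
  Submodule.factor (le_sup_left : I ≤ I ⊔ J) ∘ₗ LinearMap.fst R _ _ -
    Submodule.factor (le_sup_right : J ≤ I ⊔ J) ∘ₗ LinearMap.snd R _ _

/-- The diagonal `R/(I ∩ J) → R/I × R/J`. -/
noncomputable def glueDiag (I J : Ideal R) : R ⧸ (I ⊓ J) →ₗ[R] (R ⧸ I) × (R ⧸ J) :=
  (Submodule.factor (inf_le_left : I ⊓ J ≤ I)).prod (Submodule.factor (inf_le_right : I ⊓ J ≤ J))

theorem glueDiag_injective (I J : Ideal R) : Injective (glueDiag I J) := by
  rw [← LinearMap.ker_eq_bot, eq_bot_iff]
  rintro x hx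
  obtain ⟨a, rfl⟩ := Submodule.Quotient.mk_surjective _ x
  simp only [LinearMap.mem_ker, glueDiag, LinearMap.prod_apply, Function.prod, Prod.mk_eq_zero, factor_mk,
    Submodule.Quotient.mk_eq_zero] at hx
  exact (Submodule.Quotient.mk_eq_zero _).2 hx

theorem glueDiff_surjective (I J : Ideal R) : Surjective (glueDiff I J) := by
  intro c
  obtain ⟨a, rfl⟩ := Submodule.Quotient.mk_surjective _ c
  exact ⟨(Submodule.Quotient.mk a, 0), by simp [glueDiff]⟩

theorem glue_exact (I J : Ideal R) : Exact (glueDiag I J) (glueDiff I J) := by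
  rintro ⟨p, q⟩
  obtain ⟨a, rfl⟩ := Submodule.Quotient.mk_surjective _ p
  obtain ⟨b, rfl⟩ := Submodule.Quotient.mk_surjective _ q
  simp only [glueDiff, glueDiag, LinearMap.sub_apply, LinearMap.comp_apply, LinearMap.fst_apply, LinearMap.snd_apply,
    factor_mk, ← Submodule.Quotient.mk_sub, Submodule.Quotient.mk_eq_zero, Set.mem_range]
  constructor
  · intro h
    obtain ⟨i, hi, j, hj, hij⟩ := Submodule.mem_sup.1 h
    refine ⟨Submodule.Quotient.mk (a - i), Prod.ext ?_ ?_⟩
    · simp [Ideal.Quotient.eq_zero_iff_mem.2 hi]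
    · simp only [LinearMap.prod_apply, Function.prod, factor_mk, Submodule.Quotient.eq]
      rwa [show a - i - b = j by linear_combination -hij]
  · rintro ⟨y, hy⟩
    obtain ⟨c, rfl⟩ := Submodule.Quotient.mk_surjective _ y
    simp only [LinearMap.prod_apply, Function.prod, factor_mk, Prod.mk.injEq, Submodule.Quotient.eq] at hy
    rw [show a - b = (c - b) - (c - a) by ring]
    exact Ideal.sub_mem _ (Submodule.mem_sup_right hy.2) (Submodule.mem_sup_left hy.1)

/-- Gluing: `x` kills the intersection of the two branches. -/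
theorem isWeaklyRegular_glue {I J : Ideal R} {x : R} {rs : List R} (hx : x ∈ I ⊔ J)
    (hI : IsWeaklyRegular (R ⧸ I) (x :: rs)) (hJ : IsWeaklyRegular (R ⧸ J) (x :: rs))
    (hC : IsWeaklyRegular (R ⧸ (I ⊔ J)) rs) : IsWeaklyRegular (R ⧸ (I ⊓ J)) (x :: rs) := by
  rw [isWeaklyRegular_quotient_cons_iff] at hI hJ ⊢
  refine ⟨fun a ha => ⟨hI.1 a ha.1, hJ.1 a ha.2⟩, ?_⟩
  set I' := I ⊔ Ideal.span {x}
  set J' := J ⊔ Ideal.span {x}
  set K := (I ⊓ J) ⊔ Ideal.span {x}
  have hxK : x ∈ K := Submodule.mem_sup_right (Ideal.mem_span_singleton_self x)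
  have hK : K ≤ I' ⊓ J' := le_inf (sup_le_sup_right inf_le_left _) (sup_le_sup_right inf_le_right _)
  have hsup : I' ⊔ J' = I ⊔ J :=
    le_antisymm (sup_le (sup_le le_sup_left ((Ideal.span_singleton_le_iff_mem _).2 hx))
      (sup_le le_sup_right ((Ideal.span_singleton_le_iff_mem _).2 hx))) (sup_le_sup le_sup_left le_sup_left)
  have hquot : IsWeaklyRegular (R ⧸ (I' ⊓ J')) rs :=
    isWeaklyRegular_of_exact_left' (glueDiag I' J') (glueDiff I' J') (glueDiag_injective _ _) (glue_exact _ _)
      (glueDiff_surjective _ _) (isWeaklyRegular_prod hI.2 hJ.2) (by rwa [hsup])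
  obtain ⟨i₀, hi₀, j₀, hj₀, hij⟩ := Submodule.mem_sup.1 hx
  have hmap : I ⊔ J ≤ Submodule.comap (LinearMap.mulRight R i₀) K := sup_le
    (fun c hc => by
      rw [Submodule.mem_comap, LinearMap.mulRight_apply, show c * i₀ = c * x - c * j₀ by rw [← hij]; ring]
      exact Ideal.sub_mem _ (Ideal.mul_mem_left _ c hxK)
        (Submodule.mem_sup_left ⟨Ideal.mul_mem_right _ _ hc, Ideal.mul_mem_left _ _ hj₀⟩))
    (fun c hc => Submodule.mem_sup_left ⟨Ideal.mul_mem_left _ _ hi₀, Ideal.mul_mem_right _ _ hc⟩)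
  refine isWeaklyRegular_of_exact_mid (Submodule.mapQ (I ⊔ J) K (LinearMap.mulRight R i₀) hmap)
    (Submodule.factor hK) ?_ ?_ (Submodule.factor_surjective hK) hC hquot
  · rw [← LinearMap.ker_eq_bot, eq_bot_iff]
    intro p hp
    obtain ⟨c, rfl⟩ := Submodule.Quotient.mk_surjective _ p
    rw [LinearMap.mem_ker, Submodule.mapQ_apply, Submodule.Quotient.mk_eq_zero, LinearMap.mulRight_apply,
      Submodule.mem_sup] at hp
    obtain ⟨k, hk, y, hy, he⟩ := hp
    obtain ⟨a, rfl⟩ := Ideal.mem_span_singleton'.1 hy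
    refine (Submodule.Quotient.mk_eq_zero _).2 ?_
    have haI : a ∈ I := hI.1 a (by
      rw [show x * a = c * i₀ - k by linear_combination he]
      exact Ideal.sub_mem _ (Ideal.mul_mem_left _ _ hi₀) hk.1)
    have hcaJ : c - a ∈ J := hJ.1 _ (by
      rw [show x * (c - a) = c * j₀ + k by rw [← hij] at he ⊢; linear_combination -he]
      exact Ideal.add_mem _ (Ideal.mul_mem_left _ _ hj₀) hk.2)
    rw [show c = a + (c - a) by ring]
    exact Submodule.add_mem_sup haI hcaJ
  · intro q
    obtain ⟨f, rfl⟩ := Submodule.Quotient.mk_surjective _ q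
    rw [factor_mk, Submodule.Quotient.mk_eq_zero]
    constructor
    · rintro ⟨hfI, hfJ⟩
      obtain ⟨i, hi, u, hu, hiu⟩ := Submodule.mem_sup.1 hfI
      obtain ⟨j, hj, w, hw, hjw⟩ := Submodule.mem_sup.1 hfJ
      obtain ⟨a, rfl⟩ := Ideal.mem_span_singleton'.1 hu
      obtain ⟨b, rfl⟩ := Ideal.mem_span_singleton'.1 hw
      refine ⟨Submodule.Quotient.mk (b - a), ?_⟩
      rw [Submodule.mapQ_apply, LinearMap.mulRight_apply, Submodule.Quotient.eq]
      rw [show (b - a) * i₀ - f = ((b - a) * i₀ - i) + (-a) * x by rw [← hiu]; ring]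
      refine Submodule.add_mem_sup ⟨Ideal.sub_mem _ (Ideal.mul_mem_left _ _ hi₀) hi, ?_⟩
        (Ideal.mul_mem_left _ _ (Ideal.mem_span_singleton_self x))
      rw [show (b - a) * i₀ - i = -((b - a) * j₀) - j by rw [← hij] at hiu hjw; linear_combination hjw - hiu]
      exact Ideal.sub_mem _ (J.neg_mem (Ideal.mul_mem_left _ _ hj₀)) hj
    · rintro ⟨p, hp⟩
      obtain ⟨c, rfl⟩ := Submodule.Quotient.mk_surjective _ p
      rw [Submodule.mapQ_apply, LinearMap.mulRight_apply, Submodule.Quotient.eq] at hp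
      have hmem : c * i₀ ∈ I' ⊓ J' := by
        refine ⟨Submodule.mem_sup_left (Ideal.mul_mem_left _ _ hi₀), ?_⟩
        rw [show c * i₀ = -(c * j₀) + c * x by rw [← hij]; ring]
        exact Submodule.add_mem_sup (J.neg_mem (Ideal.mul_mem_left _ _ hj₀))
          (Ideal.mul_mem_left _ _ (Ideal.mem_span_singleton_self x))
      simpa using Ideal.sub_mem _ hmem (hK hp)

end Groth.Agent.CMGraded
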