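import Mathlib
import Groth.Agent.CMGraded.RegSeq
import Groth.Agent.CMGraded.FlatCM
import Groth.Agent.ZetaPts.Alg
import Groth.Agent.SMT.Dimension

/-!
# Graded quotients with a regular sequence of linear forms of full length

Such a quotient is finite free over the polynomial ring on the forms, hence Cohen–Macaulay.
-/

open MvPolynomial RingTheory.Sequence

namespace Groth.Agent.CMGraded

universe u v

variable {K : Type u} [Field K] {σ : Type v}

/-- Stability under homogeneous components. -/
def IsHomog (J : Ideal (MvPolynomial σ K)) : Prop := ∀ f ∈ J, ∀ m : ℕ, homogeneousComponent m f ∈ J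

theorem homogeneousComponent_mul_of_isHomogeneous {g : MvPolynomial σ K} {i : ℕ} (hg : g.IsHomogeneous i)
    (f : MvPolynomial σ K) (m : ℕ) :
    homogeneousComponent m (f * g) = if i ≤ m then homogeneousComponent (m - i) f * g else 0 := by
  classical
  have hj : ∀ j, homogeneousComponent m (homogeneousComponent j f * g) =
      if j + i = m then homogeneousComponent j f * g else 0 := fun j => by
    split_ifs with h
    · exact homogeneousComponent_eq_self (h ▸ (homogeneousComponent_isHomogeneous j f).mul hg)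
    · exact homogeneousComponent_eq_zero' _ _ fun e he => by
        rw [Finsupp.degree_eq_weight_one]
        exact fun hm => h (((homogeneousComponent_isHomogeneous j f).mul hg (mem_support_iff.1 he)).symm.trans hm)
  conv_lhs => rw [← sum_homogeneousComponent f, Finset.sum_mul, map_sum]
  simp only [hj]
  split_ifs with him
  · rw [Finset.sum_congr rfl fun j _ => if_congr (show j + i = m ↔ j = m - i by omega) rfl rfl,
      Finset.sum_ite_eq']
    split_ifs with hr
    · rfl
    · rw [homogeneousComponent_eq_zero _ _ (by simp at hr; omega), zero_mul]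
  · exact Finset.sum_eq_zero fun j _ => if_neg (by omega)

theorem isHomog_span {T : Set (MvPolynomial σ K)} (hT : ∀ g ∈ T, ∃ i, g.IsHomogeneous i) :
    IsHomog (Ideal.span T) := by
  intro f hf
  induction hf using Submodule.span_induction with
  | mem g hg =>
    intro m
    obtain ⟨i, hi⟩ := hT g hg
    have := homogeneousComponent_mul_of_isHomogeneous hi 1 m
    rw [one_mul] at this
    rw [this]
    split_ifs
    · exact Ideal.mul_mem_left _ _ (Ideal.subset_span hg)
    · exact Ideal.zero_mem _
  | zero => intro m; simp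
  | add x y _ _ hx hy => intro m; rw [map_add]; exact Ideal.add_mem _ (hx m) (hy m)
  | smul a x _ hx =>
    intro m
    rw [smul_eq_mul, ← sum_homogeneousComponent a, Finset.sum_mul, map_sum]
    refine Ideal.sum_mem _ fun j _ => ?_
    rw [mul_comm, homogeneousComponent_mul_of_isHomogeneous (homogeneousComponent_isHomogeneous j a) x m]
    split_ifs
    · exact Ideal.mul_mem_right _ _ (hx _)
    · exact Ideal.zero_mem _

theorem isHomog_iInf {ι : Sort*} {J : ι → Ideal (MvPolynomial σ K)} (h : ∀ i, IsHomog (J i)) :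
    IsHomog (⨅ i, J i) := fun f hf m => by
  rw [Submodule.mem_iInf] at hf ⊢
  exact fun i => h i f (hf i) m

/-- The ideal generated by the values of `θ`. -/
noncomputable def formsIdeal {l : ℕ} (θ : Fin l → MvPolynomial σ K) : Ideal (MvPolynomial σ K) :=
  Ideal.span (Set.range θ)

theorem formsIdeal_succ {l : ℕ} (θ : Fin (l + 1) → MvPolynomial σ K) :
    formsIdeal θ = Ideal.span {θ 0} ⊔ formsIdeal (θ ∘ Fin.succ) := by
  rw [formsIdeal, formsIdeal, ← Ideal.span_union]
  congr 1
  ext x
  simp [Fin.exists_fin_succ, eq_comm]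

/-- Lifts of independent classes are independent over the polynomial ring on a regular sequence. -/
theorem eq_zero_of_sum_mem {ι : Type*} (s : Finset ι) : ∀ {l : ℕ} (θ : Fin l → MvPolynomial σ K)
    (J : Ideal (MvPolynomial σ K)), IsWeaklyRegular (MvPolynomial σ K ⧸ J) (List.ofFn θ) →
    ∀ (b : ι → MvPolynomial σ K),
    (∀ c : ι → K, ∑ i ∈ s, c i • b i ∈ J ⊔ formsIdeal θ → ∀ i ∈ s, c i = 0) →
    ∀ p : ι → MvPolynomial (Fin l) K, ∑ i ∈ s, aeval θ (p i) * b i ∈ J → ∀ i ∈ s, p i = 0 := by
  intro l
  induction l with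
  | zero =>
    intro θ J _ b hb p hp i hi
    have hc : ∀ i, p i = C (coeff 0 (p i)) := fun i => eq_C_of_isEmpty _
    have := hb (fun i => coeff 0 (p i)) ?_ i hi
    · rw [hc i, this, C_0]
    refine Submodule.mem_sup_left (?_ : _ ∈ J)
    convert hp using 2 with j
    rw [hc j, aeval_C, coeff_C, if_pos rfl, Algebra.smul_def]
  | succ l ih =>
    intro θ J hreg b hb
    rw [List.ofFn_succ, isWeaklyRegular_quotient_cons_iff] at hreg
    have hb' : ∀ c : ι → K, ∑ i ∈ s, c i • b i ∈ (J ⊔ Ideal.span {θ 0}) ⊔ formsIdeal (θ ∘ Fin.succ) →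
        ∀ i ∈ s, c i = 0 := fun c hc => hb c (by rwa [formsIdeal_succ, ← sup_assoc])
    suffices ∀ (N : ℕ) (P : ι → Polynomial (MvPolynomial (Fin l) K)), (∀ i ∈ s, (P i).natDegree < N) →
        ∑ i ∈ s, (P i).eval₂ (aeval (θ ∘ Fin.succ)).toRingHom (θ 0) * b i ∈ J → ∀ i ∈ s, P i = 0 by
      intro p hp i hi
      have := this (∑ j ∈ s, ((finSuccEquiv K l) (p j)).natDegree + 1) (fun j => finSuccEquiv K l (p j))
        (fun j hj => Nat.lt_succ_of_le (Finset.single_le_sum (f := fun j => ((finSuccEquiv K l) (p j)).natDegree)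
          (fun _ _ => Nat.zero_le _) hj)) ?_ i hi
      · exact (map_eq_zero_iff (finSuccEquiv K l) (AlgEquiv.injective _)).1 this
      convert hp using 2 with j
      congr 1
      have hcomp : (Polynomial.eval₂RingHom (aeval (θ ∘ Fin.succ)).toRingHom (θ 0)).comp
          (finSuccEquiv K l).toRingEquiv.toRingHom = (aeval θ).toRingHom := by
        refine MvPolynomial.ringHom_ext (fun a => ?_) fun k => ?_
        · show Polynomial.eval₂ (aeval (θ ∘ Fin.succ)).toRingHom (θ 0) (finSuccEquiv K l (C a)) = aeval θ (C a)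
          rw [show finSuccEquiv K l (C a) = Polynomial.C (C a) by simp [finSuccEquiv_apply], Polynomial.eval₂_C]
          simp
        · show Polynomial.eval₂ (aeval (θ ∘ Fin.succ)).toRingHom (θ 0) (finSuccEquiv K l (X k)) = aeval θ (X k)
          induction k using Fin.cases with
          | zero => rw [finSuccEquiv_X_zero, Polynomial.eval₂_X, aeval_X]
          | succ k => rw [finSuccEquiv_X_succ, Polynomial.eval₂_C]; simp
      exact DFunLike.congr_fun hcomp (p j)
    intro N
    induction N with
    | zero => intro P hP _ i hi; exact absurd (hP i hi) (Nat.not_lt_zero _)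
    | succ N ihN =>
      intro P hP hsum
      have key : ∀ j, (P j).eval₂ (aeval (θ ∘ Fin.succ)).toRingHom (θ 0) =
          θ 0 * (P j).divX.eval₂ (aeval (θ ∘ Fin.succ)).toRingHom (θ 0) + aeval (θ ∘ Fin.succ) ((P j).coeff 0) := by
        intro j
        conv_lhs => rw [← Polynomial.X_mul_divX_add (P j)]
        rw [Polynomial.eval₂_add, Polynomial.eval₂_mul, Polynomial.eval₂_X, Polynomial.eval₂_C]
        rfl
      simp only [key, add_mul, Finset.sum_add_distrib, mul_assoc, ← Finset.mul_sum] at hsum
      have h0 : ∀ i ∈ s, (P i).coeff 0 = 0 := by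
        refine ih (θ ∘ Fin.succ) (J ⊔ Ideal.span {θ 0}) hreg.2 b hb' _ ?_
        have hmem : θ 0 * ∑ i ∈ s, (P i).divX.eval₂ (aeval (θ ∘ Fin.succ)).toRingHom (θ 0) * b i ∈
            J ⊔ Ideal.span {θ 0} := Submodule.mem_sup_right (Ideal.mul_mem_right _ _ (Ideal.mem_span_singleton_self _))
        exact (Ideal.add_mem_iff_right _ hmem).1 (Submodule.mem_sup_left hsum)
      rw [Finset.sum_eq_zero (fun j hj => by rw [h0 j hj, map_zero, zero_mul] :
        ∀ j ∈ s, aeval (θ ∘ Fin.succ) ((P j).coeff 0) * b j = 0), add_zero] at hsum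
      have hdiv : ∀ i ∈ s, (P i).divX = 0 := by
        by_cases hN : N = 0
        · intro i hi
          have := hP i hi
          rw [Polynomial.eq_C_of_natDegree_eq_zero (by omega : (P i).natDegree = 0)]
          simp
        refine ihN (fun j => (P j).divX) (fun i hi => ?_) (hreg.1 _ hsum)
        rw [Polynomial.natDegree_divX_eq_natDegree_tsub_one]
        have := hP i hi
        omega
      intro i hi
      rw [← Polynomial.X_mul_divX_add (P i), hdiv i hi, h0 i hi]
      simp

variable [Finite σ]

/-- The quotient as an algebra over the polynomial ring on the forms. -/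
noncomputable def formsHom {l : ℕ} (J : Ideal (MvPolynomial σ K)) (θ : Fin l → MvPolynomial σ K) :
    MvPolynomial (Fin l) K →+* MvPolynomial σ K ⧸ J :=
  (Ideal.Quotient.mk J).comp (aeval θ).toRingHom

theorem exists_free {l : ℕ} (J : Ideal (MvPolynomial σ K)) (hJ : IsHomog J) (θ : Fin l → MvPolynomial σ K)
    (hθ : ∀ i, (θ i).IsHomogeneous 1) (hreg : IsWeaklyRegular (MvPolynomial σ K ⧸ J) (List.ofFn θ))
    (hfin : Module.Finite K (MvPolynomial σ K ⧸ (J ⊔ formsIdeal θ))) :
    letI := (formsHom J θ).toAlgebra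
    Module.Free (MvPolynomial (Fin l) K) (MvPolynomial σ K ⧸ J) ∧
      Module.Finite (MvPolynomial (Fin l) K) (MvPolynomial σ K ⧸ J) := by
  classical
  letI := (formsHom J θ).toAlgebra
  set J' := J ⊔ formsIdeal θ
  let v : (σ →₀ ℕ) → MvPolynomial σ K ⧸ J' := fun e => Ideal.Quotient.mk J' (monomial e 1)
  obtain ⟨B, hBsub, hBspan, hBli⟩ := exists_linearIndependent K (Set.range v)
  have hvtop : Submodule.span K (Set.range v) = ⊤ := by
    rw [eq_top_iff]
    rintro x -
    obtain ⟨f, rfl⟩ := Ideal.Quotient.mk_surjective x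
    rw [f.as_sum, map_sum]
    refine Submodule.sum_mem _ fun e _ => ?_
    rw [show monomial e (coeff e f) = coeff e f • monomial e 1 by rw [smul_monomial, smul_eq_mul, mul_one]]
    show Ideal.Quotient.mkₐ K J' _ ∈ _
    rw [map_smul]
    exact Submodule.smul_mem _ _ (Submodule.subset_span ⟨e, rfl⟩)
  haveI : Finite B := hBli.finite
  haveI := Fintype.ofFinite B
  choose e he using fun x : B => hBsub x.2
  let b : B → MvPolynomial σ K := fun x => monomial (e x) 1
  let bA : B → MvPolynomial σ K ⧸ J := fun x => Ideal.Quotient.mk J (b x)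
  have hsmul : ∀ (p : MvPolynomial (Fin l) K) (f : MvPolynomial σ K),
      p • Ideal.Quotient.mk J f = Ideal.Quotient.mk J (aeval θ p * f) := fun p f => rfl
  have hli : LinearIndependent (MvPolynomial (Fin l) K) bA := by
    rw [Fintype.linearIndependent_iff]
    intro p hp x
    refine eq_zero_of_sum_mem Finset.univ θ J hreg b (fun c hc i _ => ?_) p ?_ x (Finset.mem_univ x)
    · refine (Fintype.linearIndependent_iff.1 hBli) c ?_ i
      rw [← Ideal.Quotient.eq_zero_iff_mem.2 hc, map_sum]
      refine Finset.sum_congr rfl fun y _ => ?_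
      show c y • (y : MvPolynomial σ K ⧸ J') = Ideal.Quotient.mkₐ K J' (c y • b y)
      rw [map_smul, ← he y]
      rfl
    · rw [← Ideal.Quotient.eq_zero_iff_mem, ← hp, map_sum]
      rfl
  have hspan : ⊤ ≤ Submodule.span (MvPolynomial (Fin l) K) (Set.range bA) := by
    set N := Submodule.span (MvPolynomial (Fin l) K) (Set.range bA)
    have hCsmul : ∀ (c : K) (f : MvPolynomial σ K), Ideal.Quotient.mk J f ∈ N → Ideal.Quotient.mk J (C c * f) ∈ N :=
      fun c f hf => by
        have := N.smul_mem (C c) hf
        rwa [hsmul, aeval_C] at this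
    suffices ∀ (m : ℕ) (f : MvPolynomial σ K), f.IsHomogeneous m → Ideal.Quotient.mk J f ∈ N by
      rintro x -
      obtain ⟨f, rfl⟩ := Ideal.Quotient.mk_surjective x
      rw [← sum_homogeneousComponent f, map_sum]
      exact Submodule.sum_mem _ fun m _ => this m _ (homogeneousComponent_isHomogeneous m f)
    intro m
    induction m using Nat.strong_induction_on with
    | _ m ih =>
      intro f hf
      have hfB : Ideal.Quotient.mk J' f ∈ Submodule.span K (Set.range (Subtype.val : B → MvPolynomial σ K ⧸ J')) := by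
        rw [Subtype.range_coe, hBspan, hvtop]; trivial
      obtain ⟨c, hc⟩ := (Submodule.mem_span_range_iff_exists_fun K).1 hfB
      have hmem : f - ∑ x, c x • b x ∈ J' := by
        rw [← Ideal.Quotient.eq, ← hc, map_sum]
        refine Finset.sum_congr rfl fun y _ => ?_
        show c y • (y : MvPolynomial σ K ⧸ J') = Ideal.Quotient.mkₐ K J' (c y • b y)
        rw [map_smul, ← he y]
        rfl
      obtain ⟨j, hj, t, ht, hjt⟩ := Submodule.mem_sup.1 hmem
      obtain ⟨g, hg⟩ := (Ideal.mem_span_range_iff_exists_fun).1 ht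
      have hcomp := congrArg (homogeneousComponent m) hjt
      rw [map_add, map_sub, homogeneousComponent_eq_self hf, ← hg, map_sum, map_sum, eq_sub_iff_add_eq] at hcomp
      rw [← hcomp, map_add, map_add, Ideal.Quotient.eq_zero_iff_mem.2 (hJ _ hj m), zero_add, map_sum, map_sum]
      refine N.add_mem (N.sum_mem fun i _ => ?_) (N.sum_mem fun x _ => ?_)
      · rw [homogeneousComponent_mul_of_isHomogeneous (hθ i)]
        split_ifs with hm
        · have := N.smul_mem (X i) (ih (m - 1) (by omega) _ (homogeneousComponent_isHomogeneous (m - 1) (g i)))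
          rwa [hsmul, aeval_X, mul_comm] at this
        · rw [map_zero]; exact N.zero_mem
      · rw [map_smul, smul_eq_C_mul]
        refine hCsmul _ _ ?_
        by_cases hd : (e x).degree = m
        · rw [homogeneousComponent_eq_self (isHomogeneous_monomial 1 hd)]
          exact Submodule.subset_span ⟨x, rfl⟩
        · rw [homogeneousComponent_eq_zero' _ _ fun d hd' => by
            rw [Finset.mem_singleton.1 (support_monomial_subset hd')]; exact hd, map_zero]
          exact N.zero_mem
  let basis := Module.Basis.mk hli hspan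
  exact ⟨Module.Free.of_basis basis, Module.Finite.of_basis basis⟩

theorem isCohenMacaulayRing_and_ringKrullDim {K : Type u} [Field K] {l : ℕ} {σ : Type} [Finite σ] (J : Ideal (MvPolynomial σ K))
    (hJ' : J ≠ ⊤) (hJ : IsHomog J) (θ : Fin l → MvPolynomial σ K) (hθ : ∀ i, (θ i).IsHomogeneous 1)
    (hreg : IsWeaklyRegular (MvPolynomial σ K ⧸ J) (List.ofFn θ))
    (hfin : Module.Finite K (MvPolynomial σ K ⧸ (J ⊔ formsIdeal θ))) :
    LocCoh.IsCohenMacaulayRing (MvPolynomial σ K ⧸ J) ∧ ringKrullDim (MvPolynomial σ K ⧸ J) = l := by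
  letI := (formsHom J θ).toAlgebra
  obtain ⟨hfree, hfinite⟩ := exists_free J hJ θ hθ hreg hfin
  haveI : Nontrivial (MvPolynomial σ K ⧸ J) := Ideal.Quotient.nontrivial_iff.2 hJ'
  refine ⟨isCohenMacaulayRing_of_finite_flat (MvPolynomial (Fin l) K) _, ?_⟩
  haveI : FaithfulSMul (MvPolynomial (Fin l) K) (MvPolynomial σ K ⧸ J) := inferInstance
  haveI : Algebra.IsIntegral (MvPolynomial (Fin l) K) (MvPolynomial σ K ⧸ J) := Algebra.IsIntegral.of_finite _ _
  have e : ringKrullDim (MvPolynomial σ K ⧸ J) = ringKrullDim (MvPolynomial (Fin l) K) :=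
    le_antisymm SMT.ringKrullDim_le_of_isIntegral (ZetaPts.ringKrullDim_le_of_integral_injective
      (algebraMap (MvPolynomial (Fin l) K) _) (FaithfulSMul.algebraMap_injective _ _)
      (algebraMap_isIntegral_iff.2 inferInstance))
  rw [e, MvPolynomial.ringKrullDim_of_isNoetherianRing, ringKrullDim_eq_zero_of_field, zero_add, Nat.card_fin]

end Groth.Agent.CMGraded
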