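import Mathlib
import Groth.Agent.CMGraded.Free
import Groth.Agent.SMT.CohenMacaulay

/-!
# A cone is Cohen–Macaulay when it is so at the vertex
-/

open MvPolynomial RingTheory.Sequence IsLocalRing

namespace Groth.Agent.CMGraded

universe u

/-- Appending one element to a weakly regular sequence on a cyclic module. -/
theorem isWeaklyRegular_quotient_concat_iff {R : Type u} [CommRing R] (y : R) : ∀ (rs : List R) (J : Ideal R),
    IsWeaklyRegular (R ⧸ J) (rs ++ [y]) ↔
      IsWeaklyRegular (R ⧸ J) rs ∧ ∀ a, y * a ∈ J ⊔ Ideal.ofList rs → a ∈ J ⊔ Ideal.ofList rs := by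
  intro rs
  induction rs with
  | nil =>
    intro J
    rw [List.nil_append, isWeaklyRegular_quotient_cons_iff, Ideal.ofList_nil, sup_bot_eq]
    simp [IsWeaklyRegular.nil]
  | cons r rs ih =>
    intro J
    rw [List.cons_append, isWeaklyRegular_quotient_cons_iff, isWeaklyRegular_quotient_cons_iff, ih,
      Ideal.ofList_cons, ← sup_assoc]
    tauto

variable {K : Type u} [Field K]

theorem ofList_ofFn {σ : Type*} {l : ℕ} (θ : Fin l → MvPolynomial σ K) :
    Ideal.ofList (List.ofFn θ) = formsIdeal θ := by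
  rw [formsIdeal, Ideal.ofList]
  congr 1
  ext x
  simp [List.mem_ofFn]

variable {σ : Type*}

theorem le_ker_constantCoeff {J : Ideal (MvPolynomial σ K)} (hJ : IsHomog J) (hJ' : J ≠ ⊤) :
    J ≤ RingHom.ker (constantCoeff : MvPolynomial σ K →+* K) := fun f hf => by
  by_contra h
  rw [RingHom.mem_ker, constantCoeff_eq] at h
  have h0 := hJ f hf 0
  rw [homogeneousComponent_zero] at h0
  exact hJ' (Ideal.eq_top_of_isUnit_mem _ h0 ((isUnit_iff_ne_zero.2 h).map C))

/-- Localizing at the vertex is injective on a graded quotient. -/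
theorem mem_of_mul_mem {J : Ideal (MvPolynomial σ K)} (hJ : IsHomog J) {s f : MvPolynomial σ K}
    (hs : constantCoeff s ≠ 0) (h : s * f ∈ J) : f ∈ J := by
  classical
  suffices ∀ m, homogeneousComponent m f ∈ J by
    rw [← sum_homogeneousComponent f]
    exact Ideal.sum_mem _ fun m _ => this m
  intro m
  induction m using Nat.strong_induction_on with
  | _ m ih =>
    have hm := hJ _ h m
    conv at hm => rw [← sum_homogeneousComponent f, Finset.mul_sum, map_sum]
    simp only [homogeneousComponent_mul_of_isHomogeneous (homogeneousComponent_isHomogeneous _ f)] at hm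
    by_cases hmN : m ∈ Finset.range (f.totalDegree + 1)
    swap
    · rw [homogeneousComponent_eq_zero _ _ (by simp at hmN; omega)]
      exact Ideal.zero_mem _
    rw [← Finset.add_sum_erase _ _ hmN, if_pos le_rfl, Nat.sub_self, homogeneousComponent_zero] at hm
    have hrest : ∑ j ∈ (Finset.range (f.totalDegree + 1)).erase m,
        (if j ≤ m then homogeneousComponent (m - j) s * homogeneousComponent j f else 0) ∈ J :=
      Ideal.sum_mem _ fun j hj => by
        split_ifs with hjm
        · exact Ideal.mul_mem_left _ _ (ih j (lt_of_le_of_ne hjm (Finset.ne_of_mem_erase hj)))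
        · exact Ideal.zero_mem _
    have h1 := (Ideal.add_mem_iff_left _ hrest).1 hm
    have := Ideal.mul_mem_left J (C (constantCoeff s)⁻¹) h1
    rwa [← mul_assoc, ← C_mul, constantCoeff_eq, inv_mul_cancel₀ (by rwa [← constantCoeff_eq]), C_1, one_mul] at this

variable [Finite σ]

/-- A linear form avoiding the associated primes. -/
theorem exists_linear_regular [Infinite K] {J : Ideal (MvPolynomial σ K)}
    (h : ∀ f, (∀ i, X i * f ∈ J) → f ∈ J) :
    ∃ g : MvPolynomial σ K, g.IsHomogeneous 1 ∧ ∀ a, g * a ∈ J → a ∈ J := by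
  classical
  haveI := Fintype.ofFinite σ
  let L : (σ → K) →ₗ[K] MvPolynomial σ K := Fintype.linearCombination K X
  let P : associatedPrimes (MvPolynomial σ K) (MvPolynomial σ K ⧸ J) → Subspace K (σ → K) :=
    fun p => Submodule.comap L (p.1.restrictScalars K)
  haveI : Finite (associatedPrimes (MvPolynomial σ K) (MvPolynomial σ K ⧸ J)) :=
    (associatedPrimes.finite (MvPolynomial σ K) (MvPolynomial σ K ⧸ J)).to_subtype
  have hne : ⋃ p, (P p : Set (σ → K)) ≠ Set.univ := by
    intro hcov
    obtain ⟨p, hp⟩ := Subspace.exists_eq_top_of_iUnion_eq_univ hcov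
    obtain ⟨hpp, x, hx⟩ := isAssociatedPrime_iff.1 p.2
    obtain ⟨a, rfl⟩ := Ideal.Quotient.mk_surjective x
    refine hpp.ne_top (hx.trans (eq_top_iff.2 fun r _ => ?_))
    have ha : a ∈ J := h a fun i => by
      have hi : L (Pi.single i 1) ∈ p.1 := by
        have : Pi.single i 1 ∈ P p := hp ▸ trivial
        exact this
      rw [Fintype.linearCombination_apply_single, one_smul, hx, Submodule.mem_colon_singleton, Submodule.mem_bot] at hi
      exact Ideal.Quotient.eq_zero_iff_mem.1 hi
    rw [Submodule.mem_colon_singleton, Ideal.Quotient.eq_zero_iff_mem.2 ha, smul_zero]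
    exact Submodule.zero_mem _
  obtain ⟨c, hc⟩ := (Set.ne_univ_iff_exists_notMem _).1 hne
  refine ⟨L c, ?_, fun a ha => ?_⟩
  · rw [Fintype.linearCombination_apply]
    refine IsHomogeneous.sum _ _ _ fun i _ => ?_
    rw [smul_eq_C_mul]
    exact (isHomogeneous_X K i).C_mul _
  by_contra hna
  have hz : L c ∈ ⋃ p ∈ associatedPrimes (MvPolynomial σ K) (MvPolynomial σ K ⧸ J), (p : Set (MvPolynomial σ K)) := by
    rw [biUnion_associatedPrimes_eq_zero_divisors]
    exact ⟨Ideal.Quotient.mk J a, fun e => hna (Ideal.Quotient.eq_zero_iff_mem.1 e),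
      (Ideal.Quotient.eq_zero_iff_mem.2 ha : Ideal.Quotient.mk J (L c * a) = 0)⟩
  obtain ⟨p, hp, hcp⟩ := Set.mem_iUnion₂.1 hz
  exact hc (Set.mem_iUnion.2 ⟨⟨p, hp⟩, hcp⟩)

theorem ker_constantCoeff_le {K : Type*} [CommRing K] :
    RingHom.ker (constantCoeff : MvPolynomial σ K →+* K) ≤ Ideal.span (Set.range X) := fun f hf => by
  classical
  rw [f.as_sum]
  refine Ideal.sum_mem _ fun e he => ?_
  obtain ⟨i, hi⟩ : ∃ i, e i ≠ 0 := by
    by_contra hcon
    push Not at hcon
    rw [show e = 0 from Finsupp.ext hcon] at he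
    rw [RingHom.mem_ker, constantCoeff_eq] at hf
    exact mem_support_iff.1 he hf
  rw [monomial_eq, Finsupp.prod]
  refine Ideal.mul_mem_left _ _ (Ideal.mem_of_dvd _ (Finset.dvd_prod_of_mem _ (Finsupp.mem_support_iff.2 hi)) ?_)
  exact Ideal.pow_mem_of_mem _ (Ideal.subset_span (Set.mem_range_self i)) _ (Nat.pos_of_ne_zero hi)

/-- A full regular sequence generates an ideal of definition. -/
theorem maximalIdeal_le_radical {R : Type u} [CommRing R] [IsLocalRing R] [IsNoetherianRing R] {rs : List R}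
    (hmR : ∀ r ∈ rs, r ∈ maximalIdeal R) (hwR : IsWeaklyRegular R rs) (hdim : ringKrullDim R = rs.length) :
    maximalIdeal R ≤ (Ideal.ofList rs).radical := by
  have e := ringKrullDim_add_length_eq_ringKrullDim_of_isRegular rs
    (IsRegular.of_isWeaklyRegular_of_mem_maximalIdeal R hmR hwR)
  rw [hdim] at e
  haveI : Nontrivial (R ⧸ Ideal.ofList rs) := Ideal.Quotient.nontrivial_iff.2 fun htop =>
    (maximalIdeal.isMaximal R).ne_top (eq_top_iff.2 (htop ▸ Ideal.span_le.2 hmR))
  have h0 := ringKrullDim_nonneg_of_nontrivial (R := R ⧸ Ideal.ofList rs)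
  have hz : ringKrullDim (R ⧸ Ideal.ofList rs) ≤ 0 := by
    generalize ringKrullDim (R ⧸ Ideal.ofList rs) = q at e h0
    induction q using WithBot.recBotCoe with
    | bot => simp at h0
    | coe q =>
      rw [← WithBot.coe_natCast, ← WithBot.coe_add, WithBot.coe_inj] at e
      induction q using ENat.recTopCoe with
      | top => simp at e
      | coe q => norm_cast at e ⊢; omega
  haveI : Ring.KrullDimLE 0 (R ⧸ Ideal.ofList rs) := Ring.krullDimLE_iff.2 hz
  rw [Ideal.radical_eq_sInf]
  refine le_sInf fun P ⟨hP, hPp⟩ => le_of_eq ?_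
  haveI := hPp
  haveI : (P.map (Ideal.Quotient.mk (Ideal.ofList rs))).IsPrime :=
    Ideal.map_isPrime_of_surjective Ideal.Quotient.mk_surjective (by rw [Ideal.mk_ker]; exact hP)
  haveI := Ideal.IsPrime.isMaximal' (I := P.map (Ideal.Quotient.mk (Ideal.ofList rs))) inferInstance
  have h1 := Ideal.comap_isMaximal_of_surjective (Ideal.Quotient.mk (Ideal.ofList rs)) Ideal.Quotient.mk_surjective
    (K := P.map (Ideal.Quotient.mk (Ideal.ofList rs)))
  rw [Ideal.comap_map_of_surjective _ Ideal.Quotient.mk_surjective, ← RingHom.ker_eq_comap_bot, Ideal.mk_ker,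
    sup_eq_left.2 hP] at h1
  exact (IsLocalRing.eq_maximalIdeal h1).symm

/-- The converse direction of the cone criterion. -/
theorem isCohenMacaulayRing_of_vertex [Infinite K] {N : ℕ} (I : Ideal (MvPolynomial (Fin N) K)) (hI : IsHomog I)
    (hI' : I ≠ ⊤) (m : Ideal (MvPolynomial (Fin N) K ⧸ I)) [m.IsPrime]
    (hm : m = (RingHom.ker (constantCoeff : MvPolynomial (Fin N) K →+* K)).map (Ideal.Quotient.mk I))
    (hcm : LocCoh.IsCohenMacaulayLocalRing (Localization.AtPrime m)) :
    LocCoh.IsCohenMacaulayRing (MvPolynomial (Fin N) K ⧸ I) := by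
  classical
  let f₀ : MvPolynomial (Fin N) K →+* Localization.AtPrime m := (algebraMap (MvPolynomial (Fin N) K ⧸ I) (Localization.AtPrime m)).comp (Ideal.Quotient.mk I)
  have hmem : ∀ f, Ideal.Quotient.mk I f ∈ m ↔ constantCoeff f = 0 := fun f => by
    rw [hm, Ideal.mem_map_iff_of_surjective _ Ideal.Quotient.mk_surjective]
    refine ⟨fun ⟨g, hg, e⟩ => ?_, fun h => ⟨f, h, rfl⟩⟩
    have := le_ker_constantCoeff hI hI' (Ideal.Quotient.eq.1 e)
    rw [RingHom.mem_ker, map_sub, hg, zero_sub, neg_eq_zero] at this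
    exact this
  have hmax : ∀ f, constantCoeff f = 0 → f₀ f ∈ maximalIdeal (Localization.AtPrime m) := fun f hf =>
    (IsLocalization.AtPrime.to_map_mem_maximal_iff (Localization.AtPrime m) m _).2 ((hmem f).2 hf)
  -- membership descends from the local ring
  have hdesc : ∀ {l : ℕ} (θ : Fin l → MvPolynomial (Fin N) K), (∀ i, (θ i).IsHomogeneous 1) →
      ∀ f, f₀ f ∈ Ideal.ofList ((List.ofFn θ).map f₀) → f ∈ I ⊔ formsIdeal θ := by
    intro l θ hθ f hf
    have e : Ideal.ofList ((List.ofFn θ).map f₀) = ((formsIdeal θ).map (Ideal.Quotient.mk I)).map (algebraMap (MvPolynomial (Fin N) K ⧸ I) (Localization.AtPrime m)) := by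
      rw [Ideal.map_map, ← ofList_ofFn, Ideal.map_ofList]
    rw [e] at hf
    obtain ⟨s, hs, hsf⟩ := (IsLocalization.algebraMap_mem_map_algebraMap_iff m.primeCompl (Localization.AtPrime m) _ _).1 hf
    obtain ⟨s, rfl⟩ := Ideal.Quotient.mk_surjective s
    change Ideal.Quotient.mk I (s * f) ∈ _ at hsf
    rw [← Ideal.mem_comap, Ideal.comap_map_of_surjective _ Ideal.Quotient.mk_surjective,
      ← RingHom.ker_eq_comap_bot, Ideal.mk_ker, sup_comm] at hsf
    refine mem_of_mul_mem (s := s) ?_ (fun h => hs ((hmem s).2 h)) hsf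
    intro g hg i
    obtain ⟨a, ha, b, hb, rfl⟩ := Submodule.mem_sup.1 hg
    rw [map_add]
    exact Submodule.add_mem_sup (hI a ha i) (isHomog_span (by rintro _ ⟨j, rfl⟩; exact ⟨1, hθ j⟩) b hb i)
  have hX : ∀ {l : ℕ} (θ : Fin l → MvPolynomial (Fin N) K), (∀ i, (θ i).IsHomogeneous 1) →
      ∀ i, θ i ∈ RingHom.ker (constantCoeff : MvPolynomial (Fin N) K →+* K) := fun θ hθ i => by
    rw [RingHom.mem_ker, constantCoeff_eq]
    exact (hθ i).coeff_eq_zero (by simp)
  have hreg : ∀ {l : ℕ} (θ : Fin l → MvPolynomial (Fin N) K), (∀ i, (θ i).IsHomogeneous 1) →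
      IsWeaklyRegular (MvPolynomial (Fin N) K ⧸ I) (List.ofFn θ) →
      IsWeaklyRegular (Localization.AtPrime m) ((List.ofFn θ).map f₀) ∧ ∀ r ∈ (List.ofFn θ).map f₀, r ∈ maximalIdeal (Localization.AtPrime m) := by
    intro l θ hθ h
    refine ⟨?_, fun r hr => ?_⟩
    · rw [← isWeaklyRegular_map_algebraMap_iff (S := (MvPolynomial (Fin N) K ⧸ I))] at h
      have := h.of_flat (S := (Localization.AtPrime m))
      rwa [List.map_map] at this
    · obtain ⟨y, hy, rfl⟩ := List.mem_map.1 hr
      obtain ⟨i, rfl⟩ := List.mem_ofFn.1 hy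
      exact hmax _ (hX θ hθ i)
  obtain ⟨d, hd⟩ := RegLocal.exists_nat_ringKrullDim (Localization.AtPrime m)
  -- a maximal sequence of linear forms
  obtain ⟨l, θ, hθ, hw, x, hx, hxm⟩ : ∃ (l : ℕ) (θ : Fin l → MvPolynomial (Fin N) K),
      (∀ i, (θ i).IsHomogeneous 1) ∧ IsWeaklyRegular (MvPolynomial (Fin N) K ⧸ I) (List.ofFn θ) ∧
      ∃ x, x ∉ I ⊔ formsIdeal θ ∧ ∀ i, X i * x ∈ I ⊔ formsIdeal θ := by
    by_contra hno
    have hall : ∀ l, ∃ θ : Fin l → MvPolynomial (Fin N) K, (∀ i, (θ i).IsHomogeneous 1) ∧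
        IsWeaklyRegular (MvPolynomial (Fin N) K ⧸ I) (List.ofFn θ) := by
      intro l
      induction l with
      | zero => exact ⟨Fin.elim0, fun i => i.elim0, by simpa using IsWeaklyRegular.nil _ (MvPolynomial (Fin N) K ⧸ I)⟩
      | succ l ih =>
        obtain ⟨θ, hθ, hw⟩ := ih
        obtain ⟨g, hg, hgr⟩ := exists_linear_regular (J := I ⊔ formsIdeal θ) fun f hf =>
          by_contra fun hf' => hno ⟨l, θ, hθ, hw, f, hf', hf⟩
        refine ⟨Fin.snoc θ g, fun i => ?_, ?_⟩
        · induction i using Fin.lastCases with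
          | last => simpa using hg
          | cast j => simpa using hθ j
        · rw [List.ofFn_succ', List.concat_eq_append]
          simp only [Fin.snoc_castSucc, Fin.snoc_last]
          exact (isWeaklyRegular_quotient_concat_iff g _ I).2 ⟨hw, by rwa [ofList_ofFn]⟩
    obtain ⟨θ, hθ, hw⟩ := hall (d + 1)
    have := length_le_ringKrullDim (hreg θ hθ hw).2 (hreg θ hθ hw).1
    rw [hd, List.length_map, List.length_ofFn, Nat.cast_le] at this
    omega
  obtain ⟨hwR, hmR⟩ := hreg θ hθ hw
  set rs := (List.ofFn θ).map f₀ with hrs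
  have hmI : maximalIdeal (Localization.AtPrime m) • (⊤ : Submodule (Localization.AtPrime m) (Localization.AtPrime m)) ≠ ⊤ := by
    rw [smul_eq_mul, Ideal.mul_top]; exact (maximalIdeal.isMaximal (Localization.AtPrime m)).ne_top
  have hspan : maximalIdeal (Localization.AtPrime m) ≤ Ideal.span (Set.range fun i : Fin N => f₀ (X i)) := by
    rw [← Localization.AtPrime.map_eq_maximalIdeal]
    refine (le_of_eq (congrArg (Ideal.map (algebraMap _ _)) hm)).trans ?_
    rw [Ideal.map_map]
    refine (Ideal.map_mono ker_constantCoeff_le).trans ?_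
    rw [Ideal.map_span, ← Set.range_comp]
    exact le_rfl
  have hmax' : Depth.IsMaxSeq (maximalIdeal (Localization.AtPrime m)) (Localization.AtPrime m) rs := by
    refine ⟨hwR, hmR, f₀ x, fun h => hx (hdesc θ hθ x ?_), fun r hr => ?_⟩
    · rwa [smul_eq_mul, Ideal.mul_top] at h
    simp only [smul_eq_mul, Ideal.mul_top]
    have hle : Ideal.span (Set.range fun i : Fin N => f₀ (X i)) ≤
        (Ideal.ofList rs).colon {f₀ x} := by
      rw [Ideal.span_le]
      rintro _ ⟨i, rfl⟩
      rw [SetLike.mem_coe, Submodule.mem_colon_singleton, smul_eq_mul, ← map_mul]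
      have h1 : (I ⊔ formsIdeal θ).map f₀ ≤ Ideal.ofList rs := by
        rw [Ideal.map_sup, sup_le_iff, hrs, ← Ideal.map_ofList, ofList_ofFn]
        refine ⟨?_, le_rfl⟩
        rw [← Ideal.map_map, Ideal.map_quotient_self, Ideal.map_bot]
        exact bot_le
      exact h1 (Ideal.mem_map_of_mem _ (hxm i))
    have := hle (hspan hr)
    rwa [Submodule.mem_colon_singleton] at this
  have hdim : ringKrullDim (Localization.AtPrime m) = (rs.length : WithBot ℕ∞) := by
    rw [← depth_eq_ringKrullDim (h := hcm), LocCoh.depth, Depth.idealDepth_eq_length hmI hmax']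
    rfl
  have hrad := maximalIdeal_le_radical hmR hwR hdim
  refine (isCohenMacaulayRing_and_ringKrullDim (l := l) I hI' hI θ hθ hw ?_).1
  refine SMT.finite_quotient_of_radical _ fun i => ?_
  obtain ⟨e, he⟩ := hrad (hmax (X i) (constantCoeff_X _ i))
  rw [← map_pow] at he
  exact ⟨e, hdesc θ hθ _ he⟩

end Groth.Agent.CMGraded
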