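import Mathlib
import Groth.Agent.CMGraded.Vertex

/-!
# Gluing two Cohen–Macaulay branches locally
-/

open RingTheory.Sequence IsLocalRing Function

namespace Groth.Agent.CMGraded

universe u

/-- Surjections give surjections of local rings. -/
theorem localRingHom_surjective {B C : Type*} [CommRing B] [CommRing C] {φ : B →+* C} (hφ : Surjective φ)
    (p : Ideal B) [p.IsPrime] (q : Ideal C) [q.IsPrime] (h : p = q.comap φ) :
    Surjective (Localization.localRingHom p q φ h) := fun z => by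
  obtain ⟨⟨c, ⟨t, ht⟩⟩, rfl⟩ := IsLocalization.mk'_surjective q.primeCompl z
  obtain ⟨b, rfl⟩ := hφ c
  obtain ⟨s, rfl⟩ := hφ t
  exact ⟨IsLocalization.mk' _ b (⟨s, fun hs => ht (show s ∈ q.comap φ from h ▸ hs)⟩ : p.primeCompl),
    Localization.localRingHom_mk' _ _ _ _ _ _⟩

theorem ker_localRingHom {B C : Type*} [CommRing B] [CommRing C] {φ : B →+* C} (hφ : Surjective φ)
    (p : Ideal B) [p.IsPrime] (q : Ideal C) [q.IsPrime] (h : p = q.comap φ) :
    RingHom.ker (Localization.localRingHom p q φ h) = (RingHom.ker φ).map (algebraMap B (Localization.AtPrime p)) := by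
  refine le_antisymm (fun z hz => ?_) (Ideal.map_le_iff_le_comap.2 fun b hb => ?_)
  · obtain ⟨⟨b, s⟩, rfl⟩ := IsLocalization.mk'_surjective p.primeCompl z
    rw [RingHom.mem_ker, Localization.localRingHom_mk', IsLocalization.mk'_eq_zero_iff] at hz
    obtain ⟨⟨t, ht⟩, e⟩ := hz
    obtain ⟨s', rfl⟩ := hφ t
    rw [IsLocalization.mk'_mem_map_algebraMap_iff]
    exact ⟨s', fun hs => ht (show s' ∈ q.comap φ from h ▸ hs), by rw [RingHom.mem_ker, map_mul]; exact e⟩
  · rw [Ideal.mem_comap, RingHom.mem_ker, Localization.localRingHom_to_map, RingHom.mem_ker.1 hb, map_zero]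

variable {R : Type u} [CommRing R] [IsLocalRing R] [IsNoetherianRing R]

theorem mk_mem_ofList_smul_iff {K : Ideal R} (rs : List R) (a : R) :
    Submodule.Quotient.mk a ∈ (Ideal.ofList rs • ⊤ : Submodule R (R ⧸ K)) ↔ a ∈ K ⊔ Ideal.ofList rs := by
  have e : (Ideal.ofList rs • ⊤ : Submodule R (R ⧸ K)) = (Ideal.ofList rs • (⊤ : Submodule R R)).map K.mkQ := by
    rw [Submodule.map_smul'', Submodule.map_top, Submodule.range_mkQ]
  rw [e, ← Submodule.mkQ_apply, ← Submodule.mem_comap, Submodule.comap_map_mkQ, smul_eq_mul, Ideal.mul_top]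

theorem maximalIdeal_smul_top_ne_top {K : Ideal R} (hK : K ≠ ⊤) :
    maximalIdeal R • (⊤ : Submodule R (R ⧸ K)) ≠ ⊤ := by
  intro h
  have h1 : (Submodule.Quotient.mk 1 : R ⧸ K) ∈ maximalIdeal R • (⊤ : Submodule R (R ⧸ K)) := by rw [h]; trivial
  rw [show maximalIdeal R • (⊤ : Submodule R (R ⧸ K)) = (maximalIdeal R • (⊤ : Submodule R R)).map K.mkQ by
      rw [Submodule.map_smul'', Submodule.map_top, Submodule.range_mkQ],
    ← Submodule.mkQ_apply, ← Submodule.mem_comap, Submodule.comap_map_mkQ, smul_eq_mul, Ideal.mul_top] at h1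
  exact (maximalIdeal.isMaximal R).ne_top
    ((Ideal.eq_top_iff_one _).2 (sup_le (le_maximalIdeal hK) le_rfl h1))

/-- A Cohen–Macaulay quotient gives a regular sequence of the length of its dimension. -/
theorem le_depth_quotient_ker {S : Type u} [CommRing S] (hS : LocCoh.IsCohenMacaulayLocalRing S) (g : R →+* S)
    (hg : Surjective g) (e : ℕ) (he : ringKrullDim S = (e : WithBot ℕ∞)) :
    (e : ℕ∞) ≤ LocCoh.idealDepth (maximalIdeal R) (R ⧸ RingHom.ker g) := by
  haveI := hS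
  letI := g.toAlgebra
  have hSI : maximalIdeal S • (⊤ : Submodule S S) ≠ ⊤ := by
    rw [smul_eq_mul, Ideal.mul_top]; exact (maximalIdeal.isMaximal S).ne_top
  have hd : (e : ℕ∞) ≤ LocCoh.depth S S := by
    have := depth_eq_ringKrullDim (h := hS)
    rw [he, ← WithBot.coe_natCast, WithBot.coe_inj] at this
    exact this.ge
  obtain ⟨rs, hl, hm, hw⟩ := (Depth.le_idealDepth_iff hSI e).1 hd
  obtain ⟨rs', rfl⟩ := List.map_surjective_iff.2 hg rs
  rw [Depth.le_idealDepth_iff (maximalIdeal_smul_top_ne_top (RingHom.ker_ne_top g))]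
  refine ⟨rs', by simpa using hl, fun r hr hu => hm (g r) (List.mem_map_of_mem hr) (hu.map g), ?_⟩
  have h1 : IsWeaklyRegular S rs' := (isWeaklyRegular_map_algebraMap_iff (S := S) (M := S) rs').1 hw
  refine (LinearEquiv.isWeaklyRegular_congr ?_ rs').2 h1
  exact (Submodule.quotEquivOfEq _ _ (by ext; rfl)).trans
    ((Algebra.linearMap R S).quotKerEquivOfSurjective hg)

/-- Extending a common regular sequence by one element. -/
theorem exists_common_next {ι : Type*} [Finite ι] (K : ι → Ideal R) (hK : ∀ i, K i ≠ ⊤) {rs : List R}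
    (hm : ∀ r ∈ rs, r ∈ maximalIdeal R) (hw : ∀ i, IsWeaklyRegular (R ⧸ K i) rs)
    (hd : ∀ i, (rs.length + 1 : ℕ∞) ≤ LocCoh.idealDepth (maximalIdeal R) (R ⧸ K i)) :
    ∃ y ∈ maximalIdeal R, ∀ i, IsWeaklyRegular (R ⧸ K i) (rs ++ [y]) := by
  classical
  let T : Set (Ideal R) := ⋃ i, associatedPrimes R (R ⧸ (K i ⊔ Ideal.ofList rs))
  have hT : T.Finite := Set.finite_iUnion fun i => associatedPrimes.finite R _
  by_contra hno
  push Not at hno
  have hsub : ((maximalIdeal R : Ideal R) : Set R) ⊆ ⋃ p ∈ (hT.toFinset : Set (Ideal R)), (p : Set R) := by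
    intro y hy
    obtain ⟨i, hi⟩ := hno y hy
    rw [isWeaklyRegular_quotient_concat_iff] at hi
    push Not at hi
    obtain ⟨a, ha, hna⟩ := hi (hw i)
    have hz : y ∈ ⋃ p ∈ associatedPrimes R (R ⧸ (K i ⊔ Ideal.ofList rs)), (p : Set R) := by
      rw [biUnion_associatedPrimes_eq_zero_divisors]
      exact ⟨Ideal.Quotient.mk _ a, fun e => hna (Ideal.Quotient.eq_zero_iff_mem.1 e),
        (Ideal.Quotient.eq_zero_iff_mem.2 ha : Ideal.Quotient.mk (K i ⊔ Ideal.ofList rs) (y * a) = 0)⟩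
    obtain ⟨p, hp, hyp⟩ := Set.mem_iUnion₂.1 hz
    exact Set.mem_iUnion₂.2 ⟨p, Finset.mem_coe.2 ((Set.Finite.mem_toFinset hT).2 (Set.mem_iUnion.2 ⟨i, hp⟩)), hyp⟩
  obtain ⟨p, hp, hle⟩ := (Ideal.subset_union_prime (⊤ : Ideal R) (⊤ : Ideal R) fun p hp _ _ => by
    obtain ⟨i, hi⟩ := Set.mem_iUnion.1 ((Set.Finite.mem_toFinset hT).1 hp)
    exact hi.isPrime).1 hsub
  obtain ⟨i, hi⟩ := Set.mem_iUnion.1 ((Set.Finite.mem_toFinset hT).1 hp)
  obtain ⟨hpp, x, hx⟩ := isAssociatedPrime_iff.1 hi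
  obtain ⟨a, rfl⟩ := Ideal.Quotient.mk_surjective x
  have hseq : Depth.IsMaxSeq (maximalIdeal R) (R ⧸ K i) rs := by
    refine ⟨hw i, hm, Submodule.Quotient.mk a, fun h => hpp.ne_top (hx.trans ?_), fun r hr => ?_⟩
    · rw [mk_mem_ofList_smul_iff] at h
      refine eq_top_iff.2 fun r _ => ?_
      rw [Submodule.mem_colon_singleton, Ideal.Quotient.eq_zero_iff_mem.2 h, smul_zero]
      exact Submodule.zero_mem _
    · rw [← Submodule.Quotient.mk_smul, mk_mem_ofList_smul_iff]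
      have := hle hr
      rw [hx, Submodule.mem_colon_singleton, Submodule.mem_bot] at this
      exact Ideal.Quotient.eq_zero_iff_mem.1 this
  have := hd i
  rw [Depth.idealDepth_eq_length (maximalIdeal_smul_top_ne_top (hK i)) hseq] at this
  norm_cast at this
  omega

theorem exists_common_seq {ι : Type*} [Finite ι] (K : ι → Ideal R) (hK : ∀ i, K i ≠ ⊤) : ∀ (l : ℕ),
    (∀ i, (l : ℕ∞) ≤ LocCoh.idealDepth (maximalIdeal R) (R ⧸ K i)) →
    ∃ rs : List R, rs.length = l ∧ (∀ r ∈ rs, r ∈ maximalIdeal R) ∧ ∀ i, IsWeaklyRegular (R ⧸ K i) rs := by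
  intro l
  induction l with
  | zero => exact fun _ => ⟨[], rfl, by simp, fun i => IsWeaklyRegular.nil R _⟩
  | succ l ih =>
    intro hd
    obtain ⟨rs, hl, hm, hw⟩ := ih fun i => le_trans (by exact_mod_cast Nat.le_succ l) (hd i)
    obtain ⟨y, hy, hw'⟩ := exists_common_next K hK hm hw fun i => by rw [hl]; exact_mod_cast hd i
    refine ⟨rs ++ [y], by simp [hl], fun r hr => ?_, hw'⟩
    rcases List.mem_append.1 hr with h | h
    · exact hm r h
    · rw [List.mem_singleton] at h; rwa [h]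

/-- The local gluing lemma. -/
theorem exists_seq_glue (I J : Ideal R) (hIJ : I ⊔ J ≠ ⊤) (hbot : I ⊓ J = ⊥) (l : ℕ)
    (hI : ((l + 1 : ℕ) : ℕ∞) ≤ LocCoh.idealDepth (maximalIdeal R) (R ⧸ I))
    (hJ : ((l + 1 : ℕ) : ℕ∞) ≤ LocCoh.idealDepth (maximalIdeal R) (R ⧸ J))
    (hC : (l : ℕ∞) ≤ LocCoh.idealDepth (maximalIdeal R) (R ⧸ (I ⊔ J))) :
    ∃ rs : List R, rs.length = l + 1 ∧ (∀ r ∈ rs, r ∈ maximalIdeal R) ∧ IsWeaklyRegular R rs := by
  have hI' : I ≠ ⊤ := fun h => hIJ (by rw [h, top_sup_eq])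
  have hJ' : J ≠ ⊤ := fun h => hIJ (by rw [h, sup_top_eq])
  obtain ⟨rs, hl, hm, hw⟩ := exists_common_seq ![I, J, I ⊔ J]
    (by intro i; fin_cases i <;> assumption) l (by
      intro i
      fin_cases i
      · exact le_trans (by exact_mod_cast Nat.le_succ l) hI
      · exact le_trans (by exact_mod_cast Nat.le_succ l) hJ
      · exact hC)
  obtain ⟨y, hy, hw'⟩ := exists_common_next ![I, J] (by intro i; fin_cases i <;> assumption) hm
    (by intro i; fin_cases i <;> [exact hw 0; exact hw 1]) (by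
      intro i
      fin_cases i
      · rw [hl]; exact_mod_cast hI
      · rw [hl]; exact_mod_cast hJ)
  refine ⟨rs ++ [y], by simp [hl], fun r hr => ?_, ?_⟩
  · rcases List.mem_append.1 hr with h | h
    · exact hm r h
    · rw [List.mem_singleton] at h; rwa [h]
  refine (LinearEquiv.isWeaklyRegular_congr (Submodule.quotEquivOfEqBot (I ⊓ J) hbot) _).1 ?_
  exact isWeaklyRegular_of_exact_left (List.prefix_append rs [y]) (by simp) (glueDiag I J) (glueDiff I J)
    (glueDiag_injective I J) (glue_exact I J) (glueDiff_surjective I J)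
    (isWeaklyRegular_prod (hw' 0) (hw' 1)) (hw 2)

end Groth.Agent.CMGraded
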