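import Mathlib
import Groth.Agent.S15708
import Groth.Agent.SMT.Dimension

/-!
# The dimension of a graded algebra over a field is the height of its irrelevant ideal
-/

open DirectSum

namespace Groth.Agent.CMGraded

universe u v

variable {K : Type u} [Field K] {A : Type v} [CommRing A] [Algebra K A]
  (𝒜 : ℕ → Submodule K A) [GradedAlgebra 𝒜]

theorem isHomogeneous_of_mem_minimalPrimes {J q : Ideal A} (hJ : J.IsHomogeneous 𝒜)
    (hq : q ∈ J.minimalPrimes) : q.IsHomogeneous 𝒜 := by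
  rw [Ideal.IsHomogeneous.iff_eq]
  have hle : J ≤ (q.homogeneousCore 𝒜).toIdeal := by
    rw [← hJ.toIdeal_homogeneousCore_eq_self]
    exact Ideal.homogeneousCore_mono 𝒜 hq.1.2
  exact le_antisymm (Ideal.toIdeal_homogeneousCore_le 𝒜 q)
    (hq.2 ⟨hq.1.1.homogeneousCore, hle⟩ (Ideal.toIdeal_homogeneousCore_le 𝒜 q))

variable (h0 : ∀ a ∈ 𝒜 0, ∃ c : K, algebraMap K A c = a)

include h0 in
theorem le_irrelevant {J : Ideal A} (hJ : J.IsHomogeneous 𝒜) (hJ' : J ≠ ⊤) : J ≤ (HomogeneousIdeal.irrelevant 𝒜).toIdeal := by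
  intro x hx
  show GradedRing.proj 𝒜 0 x = 0
  rw [GradedRing.proj_apply]
  obtain ⟨c, hc⟩ := h0 _ (decompose 𝒜 x 0).2
  by_cases hc0 : c = 0
  · rw [← hc, hc0, map_zero]
  · exact absurd (Ideal.eq_top_of_isUnit_mem _ (hJ 0 hx) (hc ▸ (isUnit_iff_ne_zero.2 hc0).map _)) hJ'

include h0 in
theorem exists_sub_mem_irrelevant (x : A) : ∃ c : K, x - algebraMap K A c ∈ (HomogeneousIdeal.irrelevant 𝒜).toIdeal := by
  obtain ⟨c, hc⟩ := h0 _ (decompose 𝒜 x 0).2
  refine ⟨c, ?_⟩
  show GradedRing.proj 𝒜 0 (x - algebraMap K A c) = 0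
  rw [map_sub, GradedRing.proj_apply, GradedRing.proj_apply, hc, decompose_coe, DirectSum.of_eq_same, sub_self]

include h0 in
theorem isMaximal_irrelevant [Nontrivial A] : (HomogeneousIdeal.irrelevant 𝒜).toIdeal.IsMaximal := by
  refine Ideal.isMaximal_iff.2 ⟨fun h => ?_, fun J x hJ hx hxJ => ?_⟩
  · have h1 : GradedRing.proj 𝒜 0 (1 : A) = 0 := h
    rw [GradedRing.proj_apply, decompose_of_mem_same 𝒜 SetLike.GradedOne.one_mem] at h1
    exact one_ne_zero h1
  · obtain ⟨c, hc⟩ := exists_sub_mem_irrelevant 𝒜 h0 x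
    have hc0 : c ≠ 0 := fun h => hx (by rwa [h, map_zero, sub_zero] at hc)
    have h1 : algebraMap K A c ∈ J := by
      have := J.sub_mem hxJ (hJ hc)
      rwa [sub_sub_cancel] at this
    exact (Ideal.eq_top_of_isUnit_mem _ h1 ((isUnit_iff_ne_zero.2 hc0).map _)) ▸ trivial

include h0 in
theorem finiteType [IsNoetherianRing A] : Algebra.FiniteType K A := by
  classical
  obtain ⟨s, hs⟩ := IsNoetherian.noetherian (HomogeneousIdeal.irrelevant 𝒜).toIdeal
  let G : Finset A := s.biUnion fun g => (decompose 𝒜 g).support.image fun n => (decompose 𝒜 g n : A)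
  refine ⟨⟨G, eq_top_iff.2 fun a _ => ?_⟩⟩
  set B := Algebra.adjoin K (G : Set A)
  suffices ∀ n, ∀ a ∈ 𝒜 n, a ∈ B by
    rw [← sum_support_decompose 𝒜 a]
    exact B.sum_mem fun n _ => this n _ (decompose 𝒜 a n).2
  intro n
  induction n using Nat.strong_induction_on with
  | _ n ih =>
  intro a ha
  rcases Nat.eq_zero_or_pos n with rfl | hn
  · obtain ⟨c, rfl⟩ := h0 a ha
    exact B.algebraMap_mem c
  have haM : a ∈ Ideal.span (s : Set A) := (congrArg (a ∈ ·) hs).mpr (HomogeneousIdeal.mem_irrelevant_of_mem 𝒜 hn ha)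
  have hG : Ideal.span (s : Set A) ≤ Ideal.span (G : Set A) := by
    rw [Ideal.span_le]
    intro g hg
    rw [← sum_support_decompose 𝒜 g]
    exact Ideal.sum_mem _ fun l hl =>
      Ideal.subset_span (Finset.mem_biUnion.2 ⟨g, hg, Finset.mem_image.2 ⟨l, hl, rfl⟩⟩)
  obtain ⟨c, hc⟩ := Submodule.mem_span_finset.1 (hG haM)
  rw [← decompose_of_mem_same 𝒜 ha, ← hc.2, decompose_sum, DFinsupp.finsetSum_apply,
    AddSubmonoidClass.coe_finsetSum]
  refine B.sum_mem fun g hg => ?_
  obtain ⟨g', hg', hg2⟩ := Finset.mem_biUnion.1 hg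
  obtain ⟨l, hl, rfl⟩ := Finset.mem_image.1 hg2
  have hgM : g' ∈ (HomogeneousIdeal.irrelevant 𝒜).toIdeal := hs ▸ Ideal.subset_span hg'
  have hl0 : l ≠ 0 := by
    rintro rfl
    refine DFinsupp.mem_support_iff.1 hl (Subtype.ext ?_)
    rw [ZeroMemClass.coe_zero]
    exact hgM
  rw [smul_eq_mul, coe_decompose_mul_of_right_mem 𝒜 n (decompose 𝒜 g' l).2]
  split_ifs with h
  · exact B.mul_mem (ih (n - l) (by omega) _ (decompose 𝒜 _ _).2) (Algebra.subset_adjoin hg)
  · exact B.zero_mem

/-- Homogeneous elements cutting out the vertex bound the dimension. -/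
theorem ringKrullDim_quotient_le [IsNoetherianRing A] [Algebra.FiniteType K A] {j : ℕ} (x : Fin j → A) (deg : Fin j → ℕ)
    (hdeg : ∀ i, 0 < deg i) (hx : ∀ i, x i ∈ 𝒜 (deg i)) (I : Ideal A) (hI : I.IsHomogeneous 𝒜)
    (hfin : Module.Finite K (A ⧸ (I ⊔ Ideal.span (Set.range x)))) : ringKrullDim (A ⧸ I) ≤ j := by
  classical
  let φ : MvPolynomial (Fin j) K →ₐ[K] A ⧸ I := (Ideal.Quotient.mkₐ K I).comp (MvPolynomial.aeval x)
  letI := φ.toRingHom.toAlgebra
  obtain ⟨T, hT⟩ := hfin.fg_top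
  choose f hf using fun t : A ⧸ (I ⊔ Ideal.span (Set.range x)) => Ideal.Quotient.mk_surjective t
  let G : Finset A := T.biUnion fun t => (decompose 𝒜 (f t)).support.image fun n => (decompose 𝒜 (f t) n : A)
  have hG : ∀ a : A, a ∈ Submodule.span K (G : Set A) ⊔ (I ⊔ Ideal.span (Set.range x)).restrictScalars K := by
    intro a
    have h1 : Ideal.Quotient.mk _ a ∈ Submodule.span K (T : Set (A ⧸ (I ⊔ Ideal.span (Set.range x)))) := hT ▸ trivial
    have h2 : Submodule.span K (T : Set (A ⧸ (I ⊔ Ideal.span (Set.range x)))) ≤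
        (Submodule.span K (G : Set A)).map (Ideal.Quotient.mkₐ K (I ⊔ Ideal.span (Set.range x))).toLinearMap := by
      rw [Submodule.span_le]
      intro t ht
      refine ⟨f t, ?_, hf t⟩
      rw [← sum_support_decompose 𝒜 (f t)]
      exact Submodule.sum_mem _ fun l hl =>
        Submodule.subset_span (Finset.mem_biUnion.2 ⟨t, ht, Finset.mem_image.2 ⟨l, hl, rfl⟩⟩)
    obtain ⟨y, hy, e⟩ := h2 h1
    rw [← add_sub_cancel y a]
    exact Submodule.add_mem_sup hy (Ideal.Quotient.eq.1 (show Ideal.Quotient.mk _ a = Ideal.Quotient.mk _ y from e.symm))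
  set W := Submodule.span (MvPolynomial (Fin j) K) (G.image (Ideal.Quotient.mk I) : Set (A ⧸ I))
  have hWK : ∀ (c : K) (w : A ⧸ I), w ∈ W → c • w ∈ W := fun c w hw => by
    have := W.smul_mem (MvPolynomial.C c) hw
    rwa [Algebra.smul_def, RingHom.algebraMap_toAlgebra, show φ.toRingHom (MvPolynomial.C c) = algebraMap K _ c from
      φ.commutes c, ← Algebra.smul_def] at this
  have key : ∀ n, ∀ a ∈ 𝒜 n, Ideal.Quotient.mk I a ∈ W := by
    intro n
    induction n using Nat.strong_induction_on with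
    | _ n ih =>
    intro a ha
    obtain ⟨y, hy, z, hz, hyz⟩ := Submodule.mem_sup.1 (hG a)
    obtain ⟨z₁, hz₁, z₂, hz₂, rfl⟩ := Submodule.mem_sup.1 (show z ∈ I ⊔ Ideal.span (Set.range x) from hz)
    obtain ⟨c, rfl⟩ := Ideal.mem_span_range_iff_exists_fun.1 hz₂
    rw [← decompose_of_mem_same 𝒜 ha, ← hyz, decompose_add, decompose_add, DirectSum.add_apply, DirectSum.add_apply,
      Submodule.coe_add, Submodule.coe_add, map_add, map_add, Ideal.Quotient.eq_zero_iff_mem.2 (hI n hz₁), zero_add]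
    refine W.add_mem ?_ ?_
    · clear hyz hG
      induction hy using Submodule.span_induction with
      | mem g hg =>
        obtain ⟨t, ht, hg2⟩ := Finset.mem_biUnion.1 hg
        obtain ⟨l, hl, rfl⟩ := Finset.mem_image.1 hg2
        rcases eq_or_ne l n with rfl | hne
        · rw [decompose_of_mem_same 𝒜 (decompose 𝒜 (f t) l).2]
          exact Submodule.subset_span (Finset.mem_coe.2 (Finset.mem_image_of_mem _ hg))
        · rw [decompose_of_mem_ne 𝒜 (decompose 𝒜 (f t) l).2 hne, map_zero]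
          exact W.zero_mem
      | zero => simp
      | add p q _ _ hp hq => rw [decompose_add, DirectSum.add_apply, Submodule.coe_add, map_add]; exact W.add_mem hp hq
      | smul r p _ hp =>
        rw [decompose_smul, DirectSum.smul_apply, Submodule.coe_smul]
        show Ideal.Quotient.mkₐ K I _ ∈ W
        rw [map_smul]
        exact hWK r _ hp
    · rw [decompose_sum, DFinsupp.finsetSum_apply, AddSubmonoidClass.coe_finsetSum, map_sum]
      refine W.sum_mem fun i _ => ?_
      rw [coe_decompose_mul_of_right_mem 𝒜 n (hx i)]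
      split_ifs with h
      · have := W.smul_mem (MvPolynomial.X i) (ih (n - deg i) (by have := hdeg i; omega) _ (decompose 𝒜 (c i) _).2)
        rwa [Algebra.smul_def, RingHom.algebraMap_toAlgebra,
          show φ.toRingHom (MvPolynomial.X i) = Ideal.Quotient.mk I (x i) by simp [φ], ← map_mul, mul_comm] at this
      · rw [map_zero]; exact W.zero_mem
  haveI : Module.Finite (MvPolynomial (Fin j) K) (A ⧸ I) := ⟨⟨G.image (Ideal.Quotient.mk I), eq_top_iff.2 fun w _ => by
    obtain ⟨a, rfl⟩ := Ideal.Quotient.mk_surjective w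
    rw [← sum_support_decompose 𝒜 a, map_sum]
    exact W.sum_mem fun n _ => key n _ (decompose 𝒜 a n).2⟩⟩
  haveI : Algebra.IsIntegral (MvPolynomial (Fin j) K) (A ⧸ I) := Algebra.IsIntegral.of_finite _ _
  refine (SMT.ringKrullDim_le_of_isIntegral (P := MvPolynomial (Fin j) K)).trans ?_
  rw [MvPolynomial.ringKrullDim_of_isNoetherianRing, ringKrullDim_eq_zero_of_field, zero_add, Nat.card_fin]

include h0 in
/-- The dimension of a graded quotient is at most the height of its vertex. -/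
theorem ringKrullDim_le_height [IsNoetherianRing A] (I : Ideal A) (hI : I.IsHomogeneous 𝒜) (hI' : I ≠ ⊤) :
    ringKrullDim (A ⧸ I) ≤ ((HomogeneousIdeal.irrelevant 𝒜).toIdeal.map (Ideal.Quotient.mk I)).height := by
  classical
  haveI : Nontrivial A := by
    by_contra hA
    rw [not_nontrivial_iff_subsingleton] at hA
    exact hI' (Subsingleton.elim _ _)
  haveI := isMaximal_irrelevant 𝒜 h0
  haveI := finiteType 𝒜 h0
  have hIM := le_irrelevant 𝒜 h0 hI hI'
  have hqp : ∀ q : Ideal A, q.IsPrime → I ≤ q → (q.map (Ideal.Quotient.mk I)).IsPrime := fun q hq hIq =>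
    Ideal.map_isPrime_of_surjective Ideal.Quotient.mk_surjective (by rwa [Ideal.mk_ker])
  have hqc : ∀ q : Ideal A, I ≤ q → (q.map (Ideal.Quotient.mk I)).comap (Ideal.Quotient.mk I) = q := fun q hIq => by
    rw [Ideal.comap_map_of_surjective _ Ideal.Quotient.mk_surjective, ← RingHom.ker_eq_comap_bot, Ideal.mk_ker,
      sup_eq_left.2 hIq]
  -- either the vertex is cut out by `j ≤ height` elements, or heights grow
  have key : ∀ i : ℕ, (∃ j : ℕ, (j : ℕ∞) ≤ ((HomogeneousIdeal.irrelevant 𝒜).toIdeal.map (Ideal.Quotient.mk I)).height ∧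
      ringKrullDim (A ⧸ I) ≤ j) ∨ (i : ℕ∞) ≤ ((HomogeneousIdeal.irrelevant 𝒜).toIdeal.map (Ideal.Quotient.mk I)).height := by
    suffices ∀ i : ℕ, (∃ j : ℕ, (j : ℕ∞) ≤ ((HomogeneousIdeal.irrelevant 𝒜).toIdeal.map (Ideal.Quotient.mk I)).height ∧
        ringKrullDim (A ⧸ I) ≤ j) ∨ ∃ (x : Fin i → A) (deg : Fin i → ℕ), (∀ l, 0 < deg l ∧ x l ∈ 𝒜 (deg l)) ∧
          ∀ q ∈ (I ⊔ Ideal.span (Set.range x)).minimalPrimes, (i : ℕ∞) ≤ (q.map (Ideal.Quotient.mk I)).height by
      intro i
      refine (this i).imp_right fun ⟨x, deg, hx, hq⟩ => ?_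
      have hle : I ⊔ Ideal.span (Set.range x) ≤ (HomogeneousIdeal.irrelevant 𝒜).toIdeal := sup_le hIM (Ideal.span_le.2 (by
        rintro _ ⟨l, rfl⟩
        exact HomogeneousIdeal.mem_irrelevant_of_mem 𝒜 (hx l).1 (hx l).2))
      obtain ⟨q, hq', hqM⟩ := Ideal.exists_minimalPrimes_le hle
      exact (hq q hq').trans (Ideal.height_mono (Ideal.map_mono hqM))
    intro i
    induction i with
    | zero => exact Or.inr ⟨Fin.elim0, Fin.elim0, fun l => l.elim0, fun q _ => by simp⟩
    | succ i ih =>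
      rcases ih with h | ⟨x, deg, hx, hq⟩
      · exact Or.inl h
      set Ji := I ⊔ Ideal.span (Set.range x) with hJi
      have hJh : Ji.IsHomogeneous 𝒜 :=
        hI.sup (Ideal.homogeneous_span 𝒜 _ (by rintro _ ⟨l, rfl⟩; exact ⟨_, (hx l).2⟩))
      by_cases hM : (HomogeneousIdeal.irrelevant 𝒜).toIdeal ∈ Ji.minimalPrimes
      · refine Or.inl ⟨i, hq _ hM, ringKrullDim_quotient_le 𝒜 x deg (fun l => (hx l).1) (fun l => (hx l).2) I hI ?_⟩
        have hrad : (HomogeneousIdeal.irrelevant 𝒜).toIdeal ≤ Ji.radical := by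
          rw [← Ideal.sInf_minimalPrimes]
          refine le_sInf fun q hq' => ?_
          haveI := hq'.1.1
          exact hM.2 ⟨hq'.1.1, hq'.1.2⟩
            (le_irrelevant 𝒜 h0 (isHomogeneous_of_mem_minimalPrimes 𝒜 hJh hq') hq'.1.1.ne_top)
        haveI : Algebra.IsIntegral K (A ⧸ Ji) := by
          refine ⟨fun w => ?_⟩
          obtain ⟨a, rfl⟩ := Ideal.Quotient.mk_surjective w
          obtain ⟨c, hc⟩ := exists_sub_mem_irrelevant 𝒜 h0 a
          obtain ⟨N, hN⟩ := hrad hc
          have h2 : IsIntegral K (Ideal.Quotient.mk Ji (a - algebraMap K A c)) := by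
            refine ⟨Polynomial.X ^ N, Polynomial.monic_X_pow N, ?_⟩
            rw [Polynomial.eval₂_pow, Polynomial.eval₂_X, ← map_pow]
            exact Ideal.Quotient.eq_zero_iff_mem.2 hN
          rw [show Ideal.Quotient.mk Ji a = Ideal.Quotient.mk Ji (a - algebraMap K A c) + algebraMap K _ c by
            rw [IsScalarTower.algebraMap_apply K A (A ⧸ Ji), Ideal.Quotient.algebraMap_eq, ← map_add, sub_add_cancel]]
          exact h2.add isIntegral_algebraMap
        haveI : Algebra.FiniteType K (A ⧸ Ji) :=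
          Algebra.FiniteType.of_surjective (Ideal.Quotient.mkₐ K Ji) (Ideal.Quotient.mkₐ_surjective K Ji)
        exact Algebra.IsIntegral.finite
      · have hfin := Ji.finite_minimalPrimes_of_isNoetherianRing A
        have hnle : ∀ p ∈ hfin.toFinset, p.IsPrime ∧ ¬ (HomogeneousIdeal.irrelevant 𝒜).toIdeal ≤ p ∧ ¬ (HomogeneousIdeal.irrelevant 𝒜).toIdeal ≤ p := by
          intro p hp
          rw [Set.Finite.mem_toFinset] at hp
          have hne : ¬ (HomogeneousIdeal.irrelevant 𝒜).toIdeal ≤ p := fun hle => hM (le_antisymm hle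
            (le_irrelevant 𝒜 h0 (isHomogeneous_of_mem_minimalPrimes 𝒜 hJh hp) hp.1.1.ne_top) ▸ hp)
          exact ⟨hp.1.1, hne, hne⟩
        obtain ⟨z, e, he, hz, -, hzp⟩ := S15708.result 𝒜 (HomogeneousIdeal.irrelevant 𝒜).toIdeal (HomogeneousIdeal.irrelevant 𝒜).isHomogeneous
          hfin.toFinset hnle
        refine Or.inr ⟨Fin.snoc x z, Fin.snoc deg e, fun l => ?_, fun q hq' => ?_⟩
        · induction l using Fin.lastCases with
          | last => simpa using ⟨he, hz⟩
          | cast l => simpa using hx l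
        have hle : Ji ≤ q := by
          refine le_trans ?_ hq'.1.2
          rw [hJi]
          exact sup_le_sup_left (Ideal.span_mono (by rintro _ ⟨l, rfl⟩; exact ⟨l.castSucc, by simp⟩)) I
        haveI := hq'.1.1
        obtain ⟨p, hp, hpq⟩ := Ideal.exists_minimalPrimes_le hle
        have hzq : z ∈ q := hq'.1.2 (Submodule.mem_sup_right (Ideal.subset_span ⟨Fin.last i, by simp⟩))
        have hIp : I ≤ p := le_sup_left.trans hp.1.2
        haveI := hqp p hp.1.1 hIp
        haveI := hqp q hq'.1.1 (hIp.trans hpq)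
        have hlt : p.map (Ideal.Quotient.mk I) < q.map (Ideal.Quotient.mk I) := by
          refine lt_of_le_of_ne (Ideal.map_mono hpq) fun e => hzp p ((Set.Finite.mem_toFinset _).2 hp) ?_
          have := congrArg (Ideal.comap (Ideal.Quotient.mk I)) e
          rw [hqc p hIp, hqc q (hIp.trans hpq)] at this
          rwa [this]
        refine le_trans ?_ (Ideal.height_add_one_le_of_lt_of_isPrime hlt)
        push_cast
        exact add_le_add (hq p hp) le_rfl
  by_cases htop : ((HomogeneousIdeal.irrelevant 𝒜).toIdeal.map (Ideal.Quotient.mk I)).height = ⊤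
  · rw [htop]; exact le_top
  obtain ⟨N, hN⟩ := ENat.ne_top_iff_exists.1 htop
  rcases key (N + 1) with ⟨j, hj, hdim⟩ | h
  · refine hdim.trans ?_
    exact_mod_cast hj
  · rw [← hN] at h
    norm_cast at h
    omega

end Groth.Agent.CMGraded
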